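import Groth.Agent.H29CurvSt.Locus
import Groth.Agent.H29Curve.FieldFibres
import Groth.Agent.H13AlgSp.BlowProper
import Groth.Agent.H3CAlg.DiagRegular
import Groth.Agent.S10829
import Groth.Agent.LeadPic.PnRel
import Groth.Agent.H8Props.FieldDimSmooth

/-!
# The projective line as an object of the stack of curves over a field point
-/

set_option autoImplicit false
set_option linter.style.haveILetI false
set_option backward.isDefEq.respectTransparency false

universe u

open CategoryTheory CategoryTheory.Limits AlgebraicGeometry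
open AlgSp Groth.Agent.H12AlgSp

namespace Groth.Agent.H29CurvSt

variable {S : Scheme.{u}}

theorem isCurveFam_yon {U T : Over S} (b : U ⟶ T) [IsProper b.left] [Flat b.left]
    [LocallyOfFinitePresentation b.left] (hd : ∀ u, FlatMor.fibreDimAt b.left u ≤ ((1 : ℕ) : WithBot ℕ∞)) :
    IsAlgSpace ((yon S).obj U) ∧ LocP @Flat ((yon S).map b) ∧ IsProperMor ((yon S).map b) ∧
      IsFinitePresentationMor ((yon S).map b) ∧ CurvSt.RelDimLE 1 ((yon S).map b) := by
  have hp := H13AlgSp.BlowProper.isProperMor_yon_map b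
  refine ⟨IsAlgSpace.yon_obj U, locP_of_repWith etLocal_flat ((repWith_yon_map_iff _ b).2 ‹_›), hp,
    ⟨locP_of_repWith etLocal_lfp ((repWith_yon_map_iff _ b).2 ‹_›), hp.2.1.2,
      repWith_le (fun _ _ k (_ : IsClosedImmersion k) => inferInstanceAs (QuasiCompact k)) hp.1⟩, fun x => ?_⟩
  obtain ⟨u, rfl⟩ := surjective_ofPt_of_repWith (P := @Surjective) le_rfl (repWith_id _ U) x
  exact ⟨U, T, 𝟙 _, 𝟙 _, b, u, repWith_id _ _, repWith_id _ _, by simp, rfl, hd u⟩

theorem locP_yon_of_allPts {Q : ∀ U V : Scheme.{u}, (U ⟶ V) → ↥U → Prop} (hQ : OpenFibrewise Q) {U T : Over S}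
    (b : U ⟶ T) [Flat b.left] [LocallyOfFinitePresentation b.left] (h : allPts Q b.left) :
    LocP (allPts Q) ((yon S).map b) := by
  refine (hQ.locP_iff (IsAlgSpace.yon_obj U) (IsAlgSpace.yon_obj T)
    (locP_of_repWith etLocal_FL ((repWith_yon_map_iff _ b).2 ⟨‹_›, ‹_›⟩))).2 fun x => ?_
  obtain ⟨u, rfl⟩ := surjective_ofPt_of_repWith (P := @Surjective) le_rfl (repWith_id _ U) x
  exact ⟨U, T, 𝟙 _, 𝟙 _, b, u, repWith_id _ _, repWith_id _ _, by simp, rfl, h u⟩

instance smoothOfRelativeDimension_line (Ω : Type u) [Field Ω] :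
    SmoothOfRelativeDimension 1 (CohB1.ProjSpace.toSpec 1 Ω) := by
  haveI : IsIntegral (CohB1.ProjSpace 1 Ω) := LeadPic.PnRel.isIntegral_projSpace (n := 1) Ω
  exact H3CAlg.DiagRegular.smoothOfRelativeDimension _ 1 (S10829.result Ω 1)

instance smooth_line (Ω : Type u) [Field Ω] : Smooth (CohB1.ProjSpace.toSpec 1 Ω) :=
  SmoothOfRelativeDimension.smooth 1 _

/-- The projective line over a field point of the base, as a family of schemes. -/
noncomputable abbrev line {Ω : Type u} [Field Ω] (t : Spec (CommRingCat.of Ω) ⟶ S) : CurvSt.PtFamObj S 0 :=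
  ⟨Over.mk t, CohB1.ProjSpace 1 Ω, CohB1.ProjSpace.toSpec 1 Ω, Fin.elim0, fun i => i.elim0⟩

/-- The projective line as an object of the stack of curves. -/
noncomputable abbrev lineObj {Ω : Type u} [Field Ω] (t : Spec (CommRingCat.of Ω) ⟶ S) : (CurvSt.Curves S 0).obj :=
  ⟨(CurvSt.toSpFam S 0).obj (line t), by
    haveI : IsProper (line t).fOver.left := (inferInstance : IsProper (CohB1.ProjSpace.toSpec 1 Ω))
    haveI : Flat (line t).fOver.left := (inferInstance : Flat (CohB1.ProjSpace.toSpec 1 Ω))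
    haveI : LocallyOfFinitePresentation (line t).fOver.left :=
      (inferInstance : LocallyOfFinitePresentation (CohB1.ProjSpace.toSpec 1 Ω))
    exact isCurveFam_yon (line t).fOver fun u =>
      (H8Props.FieldDim.fibreDimAt_of_smoothOfRelativeDimension (CohB1.ProjSpace.toSpec 1 Ω) 1 u).le⟩

/-- A predicate on curves which holds for the projective line has an object over the field point. -/
theorem nonempty_fiber {Ω : Type u} [Field Ω] (t : Spec (CommRingCat.of Ω) ⟶ S)
    {Q : (CurvSt.Curves S 0).obj → Prop} (h : Q (lineObj t)) :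
    Nonempty ((AlgSt.fullSub (CurvSt.Curves S 0) Q).p.Fiber (Over.mk t)) :=
  ⟨⟨⟨lineObj t, h⟩, rfl⟩⟩

/-- A property of the geometric fibres of the projective line, checked on cartesian squares of schemes. -/
theorem geomFib_line {Ω : Type u} [Field Ω] (t : Spec (CommRingCat.of Ω) ⟶ S)
    {Q : ∀ (K : Type u) [Field K] [IsAlgClosed K] (X' : Scheme.{u}), (X' ⟶ Spec (CommRingCat.of K)) → Prop}
    (h : ∀ (K : Type u) [Field K] [IsAlgClosed K] (s : Spec (CommRingCat.of K) ⟶ Spec (CommRingCat.of Ω))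
      (X' : Scheme.{u}) (i : X' ⟶ CohB1.ProjSpace 1 Ω) (q : X' ⟶ Spec (CommRingCat.of K)),
      IsPullback i q (CohB1.ProjSpace.toSpec 1 Ω) s → Q K X' q) :
    CurvSt.GeomFib (fun K _ _ X' q _ => Q K X' q) (lineObj t).obj :=
  (H29Curve.geomFib_toSpFam_iff (line t) Q).2 h

theorem nonempty_of_isPullback_line {Ω K : Type u} [Field Ω] [Field K]
    {s : Spec (CommRingCat.of K) ⟶ Spec (CommRingCat.of Ω)} {X' : Scheme.{u}} {i : X' ⟶ CohB1.ProjSpace 1 Ω}
    {q : X' ⟶ Spec (CommRingCat.of K)} (h : IsPullback i q (CohB1.ProjSpace.toSpec 1 Ω) s) : Nonempty ↥X' := by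
  haveI : IsIntegral (CohB1.ProjSpace 1 Ω) := LeadPic.PnRel.isIntegral_projSpace (n := 1) Ω
  haveI : Surjective (CohB1.ProjSpace.toSpec 1 Ω) :=
    ⟨Function.surjective_to_subsingleton (β := PrimeSpectrum Ω) _⟩
  haveI : Surjective q := MorphismProperty.of_isPullback h ‹_›
  obtain ⟨x, -⟩ := q.surjective (IsLocalRing.closedPoint K)
  exact ⟨x⟩

end Groth.Agent.H29CurvSt
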