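import Groth.Agent.H29CurvSt.OpenSub
import Groth.Agent.H12AlgSp.NbhdLoci
import Groth.Agent.H12AlgSp.Univ

/-!
# Open loci in the base cut out by pointwise properties of proper morphisms of algebraic spaces
-/

set_option autoImplicit false
set_option linter.style.haveILetI false
set_option backward.isDefEq.respectTransparency false

universe u

open CategoryTheory CategoryTheory.Limits AlgebraicGeometry Topology TopologicalSpace
open AlgSp Groth.Agent.H12AlgSp

namespace Groth.Agent.H29CurvSt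

/-- Flat and locally of finite presentation. -/
abbrev FL : MorphismProperty Scheme.{u} := @Flat ⊓ @LocallyOfFinitePresentation

theorem etLocal_FL : EtLocal FL.{u} := etLocal_inf etLocal_flat etLocal_lfp

/-- A pointwise property of flat maps locally of finite presentation with open locus, insensitive to base change. -/
structure OpenFibrewise (Q : ∀ U V : Scheme.{u}, (U ⟶ V) → ↥U → Prop) : Prop where
  inv : EtInvAt FL Q
  isOpen : ∀ {U V : Scheme.{u}} (h : U ⟶ V) [Flat h] [LocallyOfFinitePresentation h], IsOpen {u | Q U V h u}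
  baseChange : ∀ {A B A' B' : Scheme.{u}} {g' : A' ⟶ A} {f' : A' ⟶ B'} {f : A ⟶ B} {g : B' ⟶ B}
    [Flat f] [LocallyOfFinitePresentation f] (_ : IsPullback g' f' f g) (x' : A'), Q A' B' f' x' ↔ Q A B f (g' x')

variable {Q : ∀ U V : Scheme.{u}, (U ⟶ V) → ↥U → Prop} {S : Scheme.{u}}

/-- The property at every point, as a property of morphisms of schemes. -/
abbrev allPts (Q : ∀ U V : Scheme.{u}, (U ⟶ V) → ↥U → Prop) : MorphismProperty Scheme.{u} :=
  fun U V h => ∀ u, Q U V h u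

theorem OpenFibrewise.locP_iff (hQ : OpenFibrewise Q) {X Y : Sp S} (hX : IsAlgSpace X) (hY : IsAlgSpace Y)
    {f : X ⟶ Y} (hf : LocP FL f) : LocP (allPts Q) f ↔ ∀ x, HasAtMor Q f x := by
  refine ⟨fun h x => ?_, fun h U V a b q ha hb w u => (hQ.inv.hasAtMor_iff hf ha hb w u).1 (h _)⟩
  obtain ⟨U, V, a, b, q, u, ha, hb, w, rfl⟩ := exists_chart_at hX hY f x
  exact ⟨U, V, a, b, q, u, ha, hb, w, rfl, h a b q ha hb w u⟩

theorem OpenFibrewise.isOpen_locus (hQ : OpenFibrewise Q) {X Y : Sp S} {f : X ⟶ Y} (hf : LocP FL f) :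
    IsOpen {x : Points X | HasAtMor Q f x} := by
  refine isOpen_iff_forall_mem_open.2 fun x hx => ?_
  obtain ⟨U, V, a, b, h, u, ha, hb, w, rfl, hu⟩ := hx
  obtain ⟨h1, h2⟩ : Flat h.left ∧ LocallyOfFinitePresentation h.left := hf a b h ha hb w
  exact ⟨Points.ofPt a '' {v | Q U.left V.left h.left v},
    fun _ ⟨v, hv, e⟩ => e ▸ ⟨U, V, a, b, h, v, ha, hb, w, rfl, hv⟩,
    isOpenMap_ofPt_of_repWith etale_le_universallyOpen ha _ (hQ.isOpen h.left), ⟨u, hu, rfl⟩⟩

theorem OpenFibrewise.baseChange_iff (hQ : OpenFibrewise Q) {X Y X' Y' : Sp S} {f : X ⟶ Y} {g : Y' ⟶ Y}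
    {fst : X' ⟶ X} {f' : X' ⟶ Y'} (sq : IsPullback fst f' f g) (hX : IsAlgSpace X) (hY : IsAlgSpace Y)
    (hY' : IsAlgSpace Y') (hf : LocP FL f) (x' : Points X') :
    HasAtMor Q f' x' ↔ HasAtMor Q f (Points.map fst x') := by
  obtain ⟨U, V, O, T, a, b, h, a', b', m, h', k, o, ha, hb, w, ha', hb', w', sqO, rfl, e⟩ :=
    exists_baseChange_chart_at sq hX hY hY' x'
  obtain ⟨h1, h2⟩ : Flat h.left ∧ LocallyOfFinitePresentation h.left := hf a b h ha hb w
  rw [hQ.inv.hasAtMor_iff (H12AlgSp.locP_of_isPullback etLocal_FL sq hX hY hY' hf) ha' hb' w', ← e,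
    hQ.inv.hasAtMor_iff hf ha hb w, hQ.baseChange sqO]

/-- For a universally closed map onto a scheme the locus of the property in the base is open. -/
theorem OpenFibrewise.exists_open (hQ : OpenFibrewise Q) {X : Sp S} {T : Over S} (hX : IsAlgSpace X)
    {f : X ⟶ (yon S).obj T} (hf : LocP FL f) (hc : IsClosedMap (Points.map f)) :
    ∃ W : T.left.Opens, ∀ {X' : Sp S} {T' : Over S} {g : T' ⟶ T} {fst : X' ⟶ X} {f' : X' ⟶ (yon S).obj T'},
      IsAlgSpace X' → IsPullback fst f' f ((yon S).map g) →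
      (LocP (allPts Q) f' ↔ ∀ t : T'.left, g.left t ∈ W) := by
  let bad : Set (Points X) := {x | HasAtMor Q f x}ᶜ
  have hbad : IsClosed bad := (hQ.isOpen_locus hf).isClosed_compl
  have hZ : IsClosed (Points.schemeHomeo T ⁻¹' (Points.map f '' bad)) :=
    (hc _ hbad).preimage (Points.schemeHomeo T).continuous
  refine ⟨⟨_, hZ.isOpen_compl⟩, fun {X' T' g fst f'} hX' sq => ?_⟩
  have hT := IsAlgSpace.yon_obj T
  have hT' := IsAlgSpace.yon_obj T'
  rw [hQ.locP_iff hX' hT' (H12AlgSp.locP_of_isPullback etLocal_FL sq hX hT hT' hf)]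
  constructor
  · rintro h t ⟨x, hx, ex⟩
    obtain ⟨x', rfl, -⟩ := exists_point_of_isPullback sq x (Points.schemeHomeo T' t)
      (by rw [ex, Points.map_yon_map_apply])
    exact hx ((hQ.baseChange_iff sq hX hT hT' hf x').1 (h x'))
  · intro h x'
    refine (hQ.baseChange_iff sq hX hT hT' hf x').2 (by_contra fun hb => ?_)
    obtain ⟨t, ht⟩ := (Points.schemeHomeo T').surjective (Points.map f' x')
    refine h t ⟨Points.map fst x', hb, ?_⟩
    rw [← Points.map_yon_map_apply, ht, ← Points.map_comp, ← Points.map_comp, sq.w]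

theorem isClosedMap_of_isCurveFam {n : ℕ} {A : CurvSt.SpFamObj S n} (hA : CurvSt.IsCurveFam A) :
    IsClosedMap (Points.map A.f) :=
  hA.2.2.1.2.2 (IsAlgSpace.yon_obj A.base) (𝟙 _) _ _
    (IsPullback.of_horiz_isIso (snd := A.f) (fst := 𝟙 A.X) (f := A.f) (g := 𝟙 _) ⟨by simp⟩)

theorem locP_FL_of_isCurveFam {n : ℕ} {A : CurvSt.SpFamObj S n} (hA : CurvSt.IsCurveFam A) : LocP FL A.f :=
  fun _ _ a b h ha hb w => ⟨hA.2.1 a b h ha hb w, hA.2.2.2.1.1 a b h ha hb w⟩

/-- A pointwise open fibrewise property gives an open substack of the stack of curves. -/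
theorem OpenFibrewise.isOpenSubstack (hQ : OpenFibrewise Q) {n : ℕ}
    (hC : AlgSt.IsAlgStack Scheme.fppfPrecoverage (CurvSt.Curves S n)) :
    AlgSt.IsOpenSubstack (CurvSt.Curves S n) (fun A => LocP (allPts Q) A.obj.f) Scheme.fppfPrecoverage := by
  refine isOpenSubstack_of_locus _ (fun A => ?_) hC
  obtain ⟨W, hW⟩ := hQ.exists_open A.property.1 (locP_FL_of_isCurveFam A.property) (isClosedMap_of_isCurveFam A.property)
  exact ⟨W, fun B φ => hW B.property.1 φ.hom.cart⟩

end Groth.Agent.H29CurvSt
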