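import Groth.Agent.H29CurvSt.GeomFibScheme
import Groth.Agent.H29CurvSt.Locus

/-!
# An open fibrewise property is tested on the geometric fibres of a family of curves
-/

set_option autoImplicit false
set_option linter.style.haveILetI false
set_option backward.isDefEq.respectTransparency false

universe u

open CategoryTheory CategoryTheory.Limits AlgebraicGeometry Topology TopologicalSpace
open AlgSp Groth.Agent.H12AlgSp

namespace Groth.Agent.H29CurvSt

variable {S : Scheme.{u}} {n : ℕ} {Q : ∀ U V : Scheme.{u}, (U ⟶ V) → ↥U → Prop}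

theorem locP_FL_geomFibre {A : CurvSt.SpFamObj S n} (hA : CurvSt.IsCurveFam A) {Ω : Type u} [Field Ω] [IsAlgClosed Ω]
    {t : Spec (CommRingCat.of Ω) ⟶ A.base.left} {X' : Scheme.{u}} {q : X' ⟶ Spec (CommRingCat.of Ω)}
    {i : (yon S).obj (A.ptOver (q ≫ t)) ⟶ A.X}
    (hP : IsPullback i ((yon S).map (A.fibHom t q)) A.f ((yon S).map (A.ptHom t))) :
    LocP FL ((yon S).map (A.fibHom t q)) :=
  H12AlgSp.locP_of_isPullback etLocal_FL hP hA.1 (IsAlgSpace.yon_obj _) (IsAlgSpace.yon_obj _) (locP_FL_of_isCurveFam hA)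

/-- An open fibrewise property holds everywhere in a family of curves iff it holds on all geometric fibres. -/
theorem geomFib_allPts_iff (hQ : OpenFibrewise Q) {A : CurvSt.SpFamObj S n} (hA : CurvSt.IsCurveFam A) :
    CurvSt.GeomFib (fun _ _ _ _ q _ => allPts Q q) A ↔ LocP (allPts Q) A.f := by
  have hY := IsAlgSpace.yon_obj A.base
  have hf := locP_FL_of_isCurveFam hA
  rw [hQ.locP_iff hA.1 hY hf]
  constructor
  · intro h x
    obtain ⟨t₀, ht₀⟩ := (Points.schemeHomeo A.base).surjective (Points.map A.f x)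
    let Ω := AlgebraicClosure (A.base.left.residueField t₀)
    let t : Spec (CommRingCat.of Ω) ⟶ A.base.left :=
      Spec.map (CommRingCat.ofHom (algebraMap (A.base.left.residueField t₀) Ω)) ≫ A.base.left.fromSpecResidueField t₀
    have ht : (A.ptHom t).left (IsLocalRing.closedPoint Ω) = t₀ := by
      show t (IsLocalRing.closedPoint Ω) = t₀
      simp only [t, Scheme.Hom.comp_apply]
      exact Scheme.fromSpecResidueField_apply _ _
    obtain ⟨X', q, i, hP⟩ := exists_geomFibre hA Ω t
    obtain ⟨x', rfl, -⟩ := exists_point_of_isPullback hP x (Points.schemeHomeo (A.ptOver t) (IsLocalRing.closedPoint Ω))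
      (by rw [Points.map_yon_map_apply, ht]; exact ht₀.symm)
    rw [← hQ.baseChange_iff hP hA.1 hY (IsAlgSpace.yon_obj _) hf x']
    obtain ⟨u, rfl⟩ := surjective_ofPt_of_repWith (P := @Surjective) le_rfl (repWith_id _ (A.ptOver (q ≫ t))) x'
    exact (hQ.inv.hasAtMor_iff (locP_FL_geomFibre hA hP) (repWith_id _ _) (repWith_id _ _) (h := A.fibHom t q)
      (by simp) u).2 (h Ω t X' q i hP u)
  · intro h Ω _ _ t X' q i hP u
    refine (hQ.inv.hasAtMor_iff (locP_FL_geomFibre hA hP) (repWith_id _ _) (repWith_id _ _) (h := A.fibHom t q)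
      (by simp) u).1 ?_
    exact (hQ.baseChange_iff hP hA.1 hY (IsAlgSpace.yon_obj _) hf _).2 (h _)

/-- The families all of whose geometric fibres have an open fibrewise property everywhere form an open substack. -/
theorem OpenFibrewise.isOpenSubstack_geomFib (hQ : OpenFibrewise Q)
    (hC : AlgSt.IsAlgStack Scheme.fppfPrecoverage (CurvSt.Curves S n)) :
    AlgSt.IsOpenSubstack (CurvSt.Curves S n) (fun A => CurvSt.GeomFib (fun _ _ _ _ q _ => allPts Q q) A.obj)
      Scheme.fppfPrecoverage := by
  rw [show (fun A : (CurvSt.Curves S n).obj => CurvSt.GeomFib (fun _ _ _ _ q _ => allPts Q q) A.obj) =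
    fun A => LocP (allPts Q) A.obj.f from funext fun A => propext (geomFib_allPts_iff hQ A.property)]
  exact hQ.isOpenSubstack hC

end Groth.Agent.H29CurvSt
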