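import Groth.Agent.H29CurvSt.SmoothLocus
import Groth.Agent.H29CurvSt.FibreCriterion
import Groth.Agent.H12AlgSp.OpenLoci
import Groth.Agent.H28Top.Dim

/-!
# Isolated non-smooth points of the fibres as an open fibrewise property
-/

set_option autoImplicit false
set_option linter.style.haveILetI false
set_option backward.isDefEq.respectTransparency false

universe u

open CategoryTheory CategoryTheory.Limits AlgebraicGeometry Topology TopologicalSpace
open AlgSp Groth.Agent.H12AlgSp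

namespace Groth.Agent.H29CurvSt

/-- In its fibre the point is smooth or an isolated non-smooth point. -/
abbrev NonsmoothIsolatedAt : ∀ U V : Scheme.{u}, (U ⟶ V) → ↥U → Prop := fun U V h u =>
  ∃ N : Set U, IsOpen N ∧ u ∈ N ∧ ∀ y ∈ N, h y = h u → ¬ SmoothAt U V h y → y = u

theorem fibreDimAt_le_zero_iff_isolated {Z V : Scheme.{u}} (k : Z ⟶ V) [LocallyOfFiniteType k] (z : Z) :
    FlatMor.fibreDimAt k z ≤ 0 ↔ ∃ O : Set Z, IsOpen O ∧ z ∈ O ∧ ∀ w ∈ O, k w = k z → w = z := by
  constructor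
  · intro h
    obtain ⟨W, hz, hq, -⟩ := (nbhd_lqf_iff k z).2 h
    haveI := hq
    have hd : _root_.IsDiscrete ((W.ι ≫ k) ⁻¹' {(W.ι ≫ k) ⟨z, hz⟩}) := (W.ι ≫ k).isDiscrete_preimage_singleton _
    obtain ⟨G, hG, hGs⟩ := isDiscrete_iff_forall_mem_exists_isOpen.1 hd ⟨z, hz⟩ rfl
    refine ⟨W.ι '' G, W.ι.isOpenEmbedding.isOpenMap G hG, ⟨⟨z, hz⟩, (hGs.symm.subset rfl).1, rfl⟩, ?_⟩
    rintro _ ⟨w, hw, rfl⟩ he
    have : w ∈ ({⟨z, hz⟩} : Set W.toScheme) := hGs.subset ⟨hw, he⟩
    rw [this]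
    rfl
  · rintro ⟨O, hO, hz, hs⟩
    refine (H28Top.localDim_le (k.asFiber z) (U := ⟨k.fiberι (k z) ⁻¹' O, hO.preimage (k.fiberι _).continuous⟩)
      (show k.fiberι (k z) (k.asFiber z) ∈ O by rw [k.fiberι_asFiber]; exact hz)).trans ?_
    haveI : Subsingleton (k.fiberι (k z) ⁻¹' O) := ⟨fun a b => Subtype.ext <| (k.fiberι _).isEmbedding.injective <| by
      rw [hs _ a.2 ((k.range_fiberι _).subset (Set.mem_range_self a.1)),
        hs _ b.2 ((k.range_fiberι _).subset (Set.mem_range_self b.1))]⟩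
    exact topologicalKrullDim_zero_of_discreteTopology _

variable {U V : Scheme.{u}}

theorem nonsmoothIsolatedAt_iff {Z : Scheme.{u}} (h : U ⟶ V) [LocallyOfFiniteType h] (i : Z ⟶ U) [IsClosedImmersion i]
    (hi : Set.range i = {y | ¬ SmoothAt U V h y}) (u : U) :
    NonsmoothIsolatedAt U V h u ↔ ∀ z, i z = u → FlatMor.fibreDimAt (i ≫ h) z ≤ 0 := by
  constructor
  · rintro ⟨N, hN, hu, hs⟩ z rfl
    exact (fibreDimAt_le_zero_iff_isolated (i ≫ h) z).2 ⟨i ⁻¹' N, hN.preimage i.continuous, hu, fun w hw e =>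
      i.isEmbedding.injective (hs _ hw e (hi.subset (Set.mem_range_self w)))⟩
  · intro hdim
    by_cases hu : SmoothAt U V h u
    · obtain ⟨W, hW, hs⟩ := hu
      exact ⟨W, W.isOpen, hW, fun y hy _ hn => (hn ⟨W, hy, hs⟩).elim⟩
    · obtain ⟨z, rfl⟩ : u ∈ Set.range i := hi ▸ hu
      obtain ⟨O, hO, hz, hs⟩ := (fibreDimAt_le_zero_iff_isolated (i ≫ h) z).1 (hdim z rfl)
      obtain ⟨N, hN, rfl⟩ := i.isEmbedding.isInducing.isOpen_iff.1 hO
      refine ⟨N, hN, hz, fun y hy e hn => ?_⟩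
      obtain ⟨w, rfl⟩ : y ∈ Set.range i := hi ▸ hn
      rw [hs w hy e]

theorem exists_nonsmooth_closedImmersion (h : U ⟶ V) [LocallyOfFinitePresentation h] :
    ∃ (Z : Scheme.{u}) (i : Z ⟶ U), IsClosedImmersion i ∧ Set.range i = {y | ¬ SmoothAt U V h y} := by
  let I := Scheme.IdealSheafData.vanishingIdeal ⟨(h.smoothLocus : Set U)ᶜ, h.smoothLocus.isOpen.isClosed_compl⟩
  refine ⟨I.subscheme, I.subschemeι, inferInstance, ?_⟩
  rw [Scheme.IdealSheafData.range_subschemeι, Scheme.IdealSheafData.coe_support_vanishingIdeal]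
  refine Set.ext fun y => ?_
  show y ∈ (h.smoothLocus : Set U)ᶜ ↔ _
  exact not_congr (smoothAt_iff h y).symm

theorem openFibrewise_nonsmoothIsolatedAt : OpenFibrewise.{u} NonsmoothIsolatedAt where
  inv := by
    refine ⟨fun {W U V} g f hg hf w => ?_, fun {U V V'} f g hg hf u => ?_⟩
    · haveI := hg
      haveI : LocallyOfFinitePresentation f := hf.2
      obtain ⟨Z, i, hi, hr⟩ := exists_nonsmooth_closedImmersion f
      haveI := hi
      have hsq := IsPullback.of_hasPullback i g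
      have hr' : Set.range (pullback.snd i g) = {y | ¬ SmoothAt W V (g ≫ f) y} := by
        rw [Scheme.Pullback.range_snd, hr]
        exact Set.ext fun y => not_congr (openFibrewise_smoothAt.inv.precomp g f hg hf y).symm
      rw [nonsmoothIsolatedAt_iff f i hr, nonsmoothIsolatedAt_iff (g ≫ f) (pullback.snd i g) hr']
      have key : ∀ z, FlatMor.fibreDimAt (pullback.snd i g ≫ g ≫ f) z ≤ 0 ↔
          FlatMor.fibreDimAt (i ≫ f) (pullback.fst i g z) ≤ 0 := fun z => by
        rw [← Category.assoc, ← hsq.w, Category.assoc]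
        exact (etInvAt_fibreDimAt (· ≤ 0)).precomp (pullback.fst i g) (i ≫ f) inferInstance inferInstance z
      refine ⟨fun h z hz => ?_, fun h z hz => (key z).2 (h _ ?_)⟩
      · obtain ⟨p, hp₁, hp₂⟩ := Scheme.Pullback.exists_preimage_pullback z w hz
        rw [← hp₁]
        exact (key p).1 (h p hp₂)
      · rw [← Scheme.Hom.comp_apply, hsq.w, Scheme.Hom.comp_apply, hz]
    · haveI := hg
      haveI : LocallyOfFinitePresentation f := hf.2
      obtain ⟨Z, i, hi, hr⟩ := exists_nonsmooth_closedImmersion f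
      haveI := hi
      have hr' : Set.range i = {y | ¬ SmoothAt U V' (f ≫ g) y} := by
        rw [hr]
        exact Set.ext fun y => not_congr (openFibrewise_smoothAt.inv.postcomp f g hg hf y).symm
      rw [nonsmoothIsolatedAt_iff f i hr, nonsmoothIsolatedAt_iff (f ≫ g) i hr']
      refine forall_congr' fun z => imp_congr_right fun _ => ?_
      rw [← Category.assoc]
      exact (etInvAt_fibreDimAt (· ≤ 0)).postcomp (i ≫ f) g hg inferInstance z
  isOpen {U V} h _ _ := by
    obtain ⟨Z, i, hi, hr⟩ := exists_nonsmooth_closedImmersion h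
    haveI := hi
    have e : {u | NonsmoothIsolatedAt U V h u} = (i '' {z | FlatMor.fibreDimAt (i ≫ h) z ≤ 0}ᶜ)ᶜ := by
      ext u
      show NonsmoothIsolatedAt U V h u ↔ _
      rw [nonsmoothIsolatedAt_iff h i hr]
      constructor
      · rintro hu ⟨z, hz, rfl⟩
        exact hz (hu z rfl)
      · exact fun hu z hz => by_contra fun hn => hu ⟨z, hn, hz⟩
    rw [e]
    refine (i.isClosedEmbedding.isClosedMap _ ?_).isOpen_compl
    exact (by exact_mod_cast H8Props.FieldDim.isOpen_fibreDimAt_le (i ≫ h) 0 :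
      IsOpen {z | FlatMor.fibreDimAt (i ≫ h) z ≤ 0}).isClosed_compl
  baseChange {A B A' B' g' f' f g} _ _ hc x' := by
    haveI : LocallyOfFinitePresentation f' := MorphismProperty.of_isPullback hc inferInstance
    obtain ⟨Z, i, hi, hr⟩ := exists_nonsmooth_closedImmersion f
    haveI := hi
    have hsq := IsPullback.of_hasPullback i g'
    have hr' : Set.range (pullback.snd i g') = {y | ¬ SmoothAt A' B' f' y} := by
      rw [Scheme.Pullback.range_snd, hr]
      exact Set.ext fun y => not_congr (openFibrewise_smoothAt.baseChange hc y).symm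
    rw [nonsmoothIsolatedAt_iff f i hr, nonsmoothIsolatedAt_iff f' (pullback.snd i g') hr']
    have key : ∀ z, FlatMor.fibreDimAt (pullback.snd i g' ≫ f') z ≤ 0 ↔
        FlatMor.fibreDimAt (i ≫ f) (pullback.fst i g' z) ≤ 0 := fun z => by
      rw [H8Props.FieldDim.fibreDimAt_baseChange (i ≫ f) (hsq.paste_vert hc) z]
    refine ⟨fun h z hz => ?_, fun h z hz => (key z).2 (h _ ?_)⟩
    · obtain ⟨p, hp₁, hp₂⟩ := Scheme.Pullback.exists_preimage_pullback z x' hz
      rw [← hp₁]
      exact (key p).1 (h p hp₂)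
    · rw [← Scheme.Hom.comp_apply, hsq.w, Scheme.Hom.comp_apply, hz]

theorem allPts_nonsmoothIsolatedAt_iff {Ω : Type u} [Field Ω] {X : Scheme.{u}} (q : X ⟶ Spec (CommRingCat.of Ω))
    [LocallyOfFiniteType q] [QuasiCompact q] :
    allPts NonsmoothIsolatedAt q ↔ Set.Finite {x : ↥X | ¬ ∃ U : X.Opens, x ∈ U ∧ Smooth (U.ι ≫ q)} := by
  haveI : IsLocallyNoetherian X := LocallyOfFiniteType.isLocallyNoetherian q
  haveI : CompactSpace X := QuasiCompact.compactSpace_of_compactSpace q
  haveI : JacobsonSpace X := LocallyOfFiniteType.jacobsonSpace q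
  haveI : LocallyOfFinitePresentation q := inferInstance
  let N : Set X := {x : ↥X | ¬ ∃ U : X.Opens, x ∈ U ∧ Smooth (U.ι ≫ q)}
  have hN : IsClosed N := by
    rw [show N = (q.smoothLocus : Set X)ᶜ from Set.ext fun x => not_congr (smoothAt_iff q x)]
    exact q.smoothLocus.isOpen.isClosed_compl
  constructor
  · intro h
    haveI : DiscreteTopology N := discreteTopology_subtype_iff'.2 fun x hx => by
      obtain ⟨G, hG, hx', hs⟩ := h x
      exact ⟨G, hG, Set.ext fun y => ⟨fun hy => hs y hy.1 (Subsingleton.elim (α := PrimeSpectrum Ω) _ _) hy.2,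
        fun hy => hy ▸ ⟨hx', hx⟩⟩⟩
    haveI : CompactSpace N := isCompact_iff_compactSpace.1 hN.isCompact
    exact Set.finite_coe_iff.1 (finite_of_compact_of_discrete : Finite N)
  · intro hf u
    have hc : IsClosed (N \ {u}) := by
      rw [← Set.biUnion_of_singleton (N \ {u})]
      exact hf.sdiff.isClosed_biUnion fun x hx => H29Curve.isClosed_singleton_of_finite_of_isClosed hN hf hx.1
    exact ⟨(N \ {u})ᶜ, hc.isOpen_compl, fun h => h.2 rfl, fun y hy _ hn => by_contra fun hne => hy ⟨hn, hne⟩⟩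

theorem geomFib_finiteNonsmooth_iff {S : Scheme.{u}} {n : ℕ} {A : CurvSt.SpFamObj S n} (hA : CurvSt.IsCurveFam A) :
    CurvSt.GeomFib (fun _ _ _ X' q _ => Set.Finite {x : ↥X' | ¬ ∃ U : X'.Opens, x ∈ U ∧ Smooth (U.ι ≫ q)}) A ↔
      CurvSt.GeomFib (fun _ _ _ _ q _ => allPts NonsmoothIsolatedAt q) A := by
  constructor
  all_goals
    intro h Ω _ _ t X' q i hP
    obtain ⟨hl, hqc, -, -⟩ := geomFibre_facts hA hP
    haveI := hl; haveI := hqc
  · exact (allPts_nonsmoothIsolatedAt_iff q).2 (h Ω t X' q i hP)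
  · exact (allPts_nonsmoothIsolatedAt_iff q).1 (h Ω t X' q i hP)

end Groth.Agent.H29CurvSt
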