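import Groth.Agent.H29CurvSt.Locus
import Groth.Agent.H29Node.NodalMax
import Groth.Agent.H8Props.FieldDimSmooth
import Groth.Agent.S1592
import Groth.Agent.S1593
import Groth.Agent.S1595
import Groth.Agent.S7912

/-!
# The nodal locus as an open fibrewise property
-/

set_option autoImplicit false
set_option linter.style.haveILetI false
set_option backward.isDefEq.respectTransparency false

universe u

open CategoryTheory CategoryTheory.Limits AlgebraicGeometry Topology TopologicalSpace
open AlgSp Groth.Agent.H12AlgSp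

namespace Groth.Agent.H29CurvSt

/-- Nodal family near a point. -/
abbrev NodalNear : ∀ U V : Scheme.{u}, (U ⟶ V) → ↥U → Prop := nbhdProp CurvSt.nodalFam

/-- A morphism which composed with an etale morphism is a nodal family is a nodal family. -/
theorem isNodalFamily_of_postcomp {X S S' : Scheme.{u}} (f : X ⟶ S') (e : S' ⟶ S) [Etale e]
    (h : Curv2.IsNodalFamily (f ≫ e)) : Curv2.IsNodalFamily f := by
  have hP := IsPullback.of_hasPullback (f ≫ e) e
  let γ := hP.lift (𝟙 X) f (by simp)
  haveI : Etale (pullback.fst (f ≫ e) e) := inferInstance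
  haveI : Etale (γ ≫ pullback.fst (f ≫ e) e) := by
    rw [hP.lift_fst]
    infer_instance
  haveI : Etale γ := Etale.of_comp γ (pullback.fst (f ≫ e) e)
  have := S1592.result (pullback.snd (f ≫ e) e) (S7912.result (f ≫ e) h e) γ
  rwa [hP.lift_snd] at this

theorem openFibrewise_nodalNear : OpenFibrewise.{u} NodalNear where
  inv := by
    refine ⟨fun {W U V} g f hg _ w => ?_, fun {U V V'} f g hg _ u => ?_⟩
    · haveI := hg
      constructor
      · rintro ⟨W', hw, h⟩
        let I : U.Opens := ⟨g '' (W' : Set W), g.isOpenMap _ W'.isOpen⟩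
        have e : W' ≤ g ⁻¹ᵁ I := fun z hz => ⟨z, hz, rfl⟩
        haveI : Etale (g.resLE I W' e) := by
          have : Etale (g.resLE I W' e ≫ I.ι) := by rw [Scheme.Hom.resLE_comp_ι]; infer_instance
          exact Etale.of_comp _ I.ι
        refine ⟨I, ⟨w, hw, rfl⟩, S1593.result (I.ι ≫ f) PUnit (fun _ => W') (fun _ => g.resLE I W' e) ?_ fun _ => ?_⟩
        · intro y
          obtain ⟨z, hz, ez⟩ := y.2
          refine ⟨⟨⟩, ⟨z, hz⟩, Subtype.ext ?_⟩
          refine Eq.trans ?_ ez
          change (g.resLE I W' e ≫ I.ι) ⟨z, hz⟩ = g z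
          rw [Scheme.Hom.resLE_comp_ι, Scheme.Hom.comp_apply]
          rfl
        · rw [← Category.assoc, Scheme.Hom.resLE_comp_ι, Category.assoc]
          exact h
      · rintro ⟨O, hO, h⟩
        refine ⟨g ⁻¹ᵁ O, hO, ?_⟩
        rw [← Category.assoc, ← morphismRestrict_ι, Category.assoc]
        exact S1592.result _ h (g ∣_ O)
    · haveI := hg
      refine exists_congr fun W => and_congr_right fun _ => ⟨fun h => ?_, fun h => ?_⟩
      · exact isNodalFamily_of_postcomp _ g (by rwa [Category.assoc])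
      · rw [← Category.assoc]
        exact S1595.result g _ h
  isOpen {U V} h _ _ := isOpen_iff_forall_mem_open.2 fun x ⟨W, hx, hW⟩ =>
    ⟨W, fun y hy => ⟨W, hy, hW⟩, W.isOpen, hx⟩
  baseChange {A B A' B' g' f' f g} _ _ hc x' := by
    constructor
    · rintro ⟨W, hx, hW⟩
      have e0 : hc.isoPullback.inv ≫ f' = pullback.snd f g := hc.isoPullback_inv_snd
      have hV : Curv2.IsNodalFamily ((hc.isoPullback.inv ⁻¹ᵁ W).ι ≫ pullback.snd f g) := by
        rw [← e0, ← Category.assoc, ← morphismRestrict_ι, Category.assoc]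
        exact S1592.result _ hW (hc.isoPullback.inv ∣_ W)
      have hmem : hc.isoPullback.hom x' ∈ hc.isoPullback.inv ⁻¹ᵁ W := by
        show hc.isoPullback.inv (hc.isoPullback.hom x') ∈ W
        rw [← Scheme.Hom.comp_apply, Iso.hom_inv_id]
        exact hx
      obtain ⟨O, hxO, hO⟩ := H29Node.exists_nodal_nhd f g _ hV hmem
      rw [← Scheme.Hom.comp_apply, hc.isoPullback_hom_fst] at hxO
      exact ⟨O, hxO, hO⟩
    · rintro ⟨O, hxO, hO⟩
      refine ⟨g' ⁻¹ᵁ O, hxO, ?_⟩
      have hP : IsPullback (g' ∣_ O) ((g' ⁻¹ᵁ O).ι ≫ f') (O.ι ≫ f) g :=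
        (isPullback_morphismRestrict _ _).paste_vert hc
      have h1 := S1592.result _ (S7912.result _ hO g) hP.isoPullback.hom
      rwa [hP.isoPullback_hom_snd] at h1

theorem allPts_nodalNear : allPts NodalNear = (CurvSt.nodalFam : MorphismProperty Scheme.{u}) := by
  ext U V h
  refine ⟨fun hh => ?_, fun hh u => ⟨⊤, trivial, S1592.result h hh _⟩⟩
  choose W hW hP using hh
  exact S1593.result h U (fun u => (W u : Scheme.{u})) (fun u => (W u).ι) (fun x => ⟨x, ⟨x, hW x⟩, rfl⟩) hP


/-- Smooth morphisms of relative dimension one are nodal families. -/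
theorem isNodalFamily_of_smoothOfRelativeDimension {X T : Scheme.{u}} (f : X ⟶ T) [SmoothOfRelativeDimension 1 f] :
    Curv2.IsNodalFamily f := by
  haveI := SmoothOfRelativeDimension.smooth 1 f
  refine (H29Node.isNodalFamily_iff f).2 fun x =>
    ⟨H8Props.FieldDim.fibreDimAt_of_smoothOfRelativeDimension f 1 x, Or.inl ?_⟩
  rw [Scheme.Hom.smoothLocus_eq_top]
  trivial

end Groth.Agent.H29CurvSt
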