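import Groth.Agent.H29CurvSt.Locus
import Groth.Agent.H29Curve.FieldLoci
import Groth.Agent.H7Flat.CMFieldExt
import Groth.Agent.H7Lim.GorOpen
import Groth.Agent.H8Props.FlatFibreConst
import Groth.Agent.H8Props.CMAt
import Groth.Agent.H06EGA17.LocalModel
import Groth.Agent.H06EGA9.CMAffineSpace
import Groth.Agent.S4961
import Groth.Agent.S3617

/-!
# Open fibrewise properties given by the local rings of the fibres
-/

set_option autoImplicit false
set_option linter.style.haveILetI false
set_option backward.isDefEq.respectTransparency false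

universe u

open CategoryTheory CategoryTheory.Limits AlgebraicGeometry Topology IsLocalRing
open AlgSp Groth.Agent.H12AlgSp

namespace Groth.Agent.H29CurvSt

/-- Flat at a point, with a property of the local ring of the fibre at that point. -/
abbrev FibAt (Q : ∀ (R : Type u) [CommRing R], Prop) : ∀ U V : Scheme.{u}, (U ⟶ V) → ↥U → Prop :=
  fun _ _ h x => (h.stalkMap x).hom.Flat ∧ Q ((h.fiber (h x)).presheaf.stalk (h.asFiber x))

variable {Q : ∀ (R : Type u) [CommRing R], Prop}

theorem fibAt_precomp (hQ : H29Curve.EtaleInvariant Q) {W U V : Scheme.{u}} (g : W ⟶ U) (f : U ⟶ V) [Etale g]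
    [Flat f] [LocallyOfFiniteType f] (w : W) : FibAt Q W V (g ≫ f) w ↔ FibAt Q U V f (g w) := by
  refine and_congr ⟨fun _ => Flat.stalkMap f _, fun _ => Flat.stalkMap (g ≫ f) _⟩ ?_
  let v := (g ≫ f) w
  let π : (g ≫ f).fiber v ⟶ f.fiber v :=
    pullback.map (g ≫ f) (V.fromSpecResidueField v) f (V.fromSpecResidueField v) g (𝟙 _) (𝟙 _) (by simp) (by simp)
  have e : π ≫ f.fiberToSpecResidueField v = (g ≫ f).fiberToSpecResidueField v :=
    (pullback.lift_snd _ _ _).trans (Category.comp_id _)
  have hπ : IsPullback π ((g ≫ f).fiberι v) (f.fiberι v) g :=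
    IsPullback.of_right (h₁₂ := f.fiberToSpecResidueField v) (v₁₃ := V.fromSpecResidueField v) (h₂₂ := f)
      (by rw [e]; exact (IsPullback.of_hasPullback (g ≫ f) (V.fromSpecResidueField v)).flip)
      (pullback.lift_fst _ _ _) (IsPullback.of_hasPullback f _).flip
  haveI : Etale π := MorphismProperty.of_isPullback hπ.flip ‹Etale g›
  haveI : IsLocallyNoetherian (f.fiber v) := by
    haveI := H8Props.FieldDim.locallyOfFiniteType_fiberToSpec f v
    exact LocallyOfFiniteType.isLocallyNoetherian (f.fiberToSpecResidueField v)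
  have hz : π ((g ≫ f).asFiber w) = f.asFiber (g w) := by
    refine (f.fiberι _).isEmbedding.injective (Eq.trans ?_ (f.fiberι_asFiber (g w)).symm)
    refine (congr($(hπ.w) ((g ≫ f).asFiber w))).trans ?_
    rw [Scheme.Hom.comp_apply, Scheme.Hom.fiberι_asFiber]
  have key := H29Curve.stalk_iff_of_etale hQ π ((g ≫ f).asFiber w)
  rw [hz] at key
  exact key

theorem map_maximalIdeal_postcomp {U V V' : Scheme.{u}} (f : U ⟶ V) (g : V ⟶ V') [Etale g] (x : U) :
    (maximalIdeal (V'.presheaf.stalk ((f ≫ g) x))).map ((f ≫ g).stalkMap x).hom =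
      (maximalIdeal (V.presheaf.stalk (f x))).map (f.stalkMap x).hom := by
  letI := (g.stalkMap (f x)).hom.toAlgebra
  haveI : IsLocalHom (algebraMap (V'.presheaf.stalk (g (f x))) (V.presheaf.stalk (f x))) :=
    inferInstanceAs (IsLocalHom (g.stalkMap (f x)).hom)
  haveI : Algebra.EssFiniteType (V'.presheaf.stalk (g (f x))) (V.presheaf.stalk (f x)) :=
    LocallyOfFiniteType.stalkMap g (f x)
  haveI : Algebra.FormallyUnramified (V'.presheaf.stalk (g (f x))) (V.presheaf.stalk (f x)) :=
    RingHom.formallyUnramified_algebraMap.mp (FormallyUnramified.stalkMap g (f x))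
  have h1 : (maximalIdeal (V'.presheaf.stalk (g (f x)))).map (g.stalkMap (f x)).hom =
      maximalIdeal (V.presheaf.stalk (f x)) := Algebra.FormallyUnramified.map_maximalIdeal
  rw [← h1, Ideal.map_map, Scheme.Hom.stalkMap_comp]
  rfl

theorem fibAt_postcomp (hiso : ∀ {R R' : Type u} [CommRing R] [CommRing R'], (R ≃+* R') → Q R → Q R')
    {U V V' : Scheme.{u}} (f : U ⟶ V) (g : V ⟶ V') [Etale g] [Flat f] (x : U) :
    FibAt Q U V' (f ≫ g) x ↔ FibAt Q U V f x := by
  refine and_congr ⟨fun _ => Flat.stalkMap f _, fun _ => Flat.stalkMap (f ≫ g) _⟩ ?_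
  let e := (H8Props.FibreStalk.asFiberStalkEquiv (f ≫ g) x).symm.trans
    ((Ideal.quotEquivOfEq (map_maximalIdeal_postcomp f g x)).trans (H8Props.FibreStalk.asFiberStalkEquiv f x))
  exact ⟨hiso e, hiso e.symm⟩

theorem fibAt_regular_of_smooth (hreg : ∀ (R : Type u) [CommRing R] [IsRegularLocalRing R], Q R)
    {U V : Scheme.{u}} (f : U ⟶ V) [Smooth f] (x : U)
    (hiso : ∀ {R R' : Type u} [CommRing R] [CommRing R'], (R ≃+* R') → Q R → Q R') : FibAt Q U V f x := by
  haveI := H06EGA17.isRegularLocalRing_fibre f x (by rw [Scheme.Hom.smoothLocus_eq_top]; trivial)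
  exact ⟨Flat.stalkMap f x, hiso (H8Props.FibreStalk.asFiberStalkEquiv f x) (hreg _)⟩

/-- The Cohen–Macaulay property of local rings. -/
abbrev CMRing : ∀ (R : Type u) [CommRing R], Prop := fun R _ => LocCoh.IsCohenMacaulayLocalRing R

/-- The Gorenstein property of local rings. -/
abbrev GorRing : ∀ (R : Type u) [CommRing R], Prop := fun R _ => LocCoh.IsGorensteinLocalRing R

theorem cm_iso {R R' : Type u} [CommRing R] [CommRing R'] (e : R ≃+* R') (h : CMRing R) : CMRing R' :=
  H8Props.CMAt.isCohenMacaulayLocalRing_of_ringEquiv e (h := h)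

theorem gor_iso {R R' : Type u} [CommRing R] [CommRing R'] (e : R ≃+* R') (h : GorRing R) : GorRing R' :=
  (H02CA.GorFlat.gor_iff_of_ringEquiv e).1 h

theorem openFibrewise_cm : OpenFibrewise.{u} (FibAt CMRing) where
  inv := ⟨fun {W U V} g f hg hf w => by
      haveI := hg; haveI := hf.1; haveI : LocallyOfFinitePresentation f := hf.2
      exact fibAt_precomp H29Curve.etaleInvariant_cm g f w,
    fun f g hg hf u => by
      haveI := hg; haveI := hf.1
      exact fibAt_postcomp cm_iso f g u⟩
  isOpen h _ _ := S4961.result h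
  baseChange {A B A' B' g' f' f g} _ _ hc x' := by
    haveI : Flat f' := MorphismProperty.of_isPullback hc inferInstance
    exact and_congr ⟨fun _ => Flat.stalkMap f _, fun _ => Flat.stalkMap f' _⟩
      (H7Flat.CMBC.fibre_cm_baseChange hc x' (fun y => H17.isLocallyNoetherian_fiber f y) (Or.inl inferInstance))

theorem openFibrewise_gor : OpenFibrewise.{u} (FibAt GorRing) where
  inv := ⟨fun {W U V} g f hg hf w => by
      haveI := hg; haveI := hf.1; haveI : LocallyOfFinitePresentation f := hf.2
      exact fibAt_precomp H29Curve.etaleInvariant_gor g f w,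
    fun f g hg hf u => by
      haveI := hg; haveI := hf.1
      exact fibAt_postcomp gor_iso f g u⟩
  isOpen h _ _ := S3617.result _ _ h
  baseChange {A B A' B' g' f' f g} _ _ hc x' := H7Lim.GorOpen.isGorensteinAt_baseChange_iff hc x'

/-- A condition on the fibre dimension added to a pointwise property of the fibres. -/
abbrev DimAnd (d : ℕ) (P : ∀ U V : Scheme.{u}, (U ⟶ V) → ↥U → Prop) : ∀ U V : Scheme.{u}, (U ⟶ V) → ↥U → Prop :=
  fun U V h x => P U V h x ∧ FlatMor.fibreDimAt h x = (d : WithBot ℕ∞)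

variable {P : ∀ U V : Scheme.{u}, (U ⟶ V) → ↥U → Prop}

/-- Where the fibres are Cohen–Macaulay their dimension is locally constant. -/
theorem OpenFibrewise.dimAnd (hP : OpenFibrewise P) (d : ℕ)
    (hcm : ∀ {U V : Scheme.{u}} (h : U ⟶ V) (x : U), P U V h x →
      LocCoh.IsCohenMacaulayLocalRing ((h.fiber (h x)).presheaf.stalk (h.asFiber x))) :
    OpenFibrewise (DimAnd d P) where
  inv := by
    refine ⟨fun g f hg hf w => ?_, fun f g hg hf u => ?_⟩
    · haveI : LocallyOfFinitePresentation f := hf.2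
      exact and_congr (hP.inv.precomp g f hg hf w)
        ((etInvAt_fibreDimAt (· = (d : WithBot ℕ∞))).precomp g f hg inferInstance w)
    · haveI : LocallyOfFinitePresentation f := hf.2
      exact and_congr (hP.inv.postcomp f g hg hf u)
        ((etInvAt_fibreDimAt (· = (d : WithBot ℕ∞))).postcomp f g hg inferInstance u)
  isOpen {U V} h _ _ := by
    rw [isOpen_iff_mem_nhds]
    rintro x ⟨hx, hd⟩
    filter_upwards [(hP.isOpen h).mem_nhds hx, H8Props.FieldDim.eventually_fibreDimAt_eq h x (hcm h x hx)]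
      with y h1 h2
    exact ⟨h1, h2.trans hd⟩
  baseChange {A B A' B' g' f' f g} _ _ hc x' :=
    and_congr (hP.baseChange hc x') (by rw [H8Props.FieldDim.fibreDimAt_baseChange f hc x'])

/-- The pointwise and the chartwise forms of the conjunction with a fibre dimension agree. -/
theorem locP_dimAnd_iff (hP : OpenFibrewise P) (d : ℕ) {S : Scheme.{u}} {X Y : Sp S} (hX : IsAlgSpace X)
    (hY : IsAlgSpace Y) {f : X ⟶ Y} (hf : LocP FL f) :
    LocP (allPts (DimAnd d P)) f ↔
      LocP (allPts P) f ∧ ∀ x, HasAtMor (fun _ _ h u => FlatMor.fibreDimAt h u = (d : WithBot ℕ∞)) f x := by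
  constructor
  · refine fun h => ⟨fun U V a b q ha hb w u => (h a b q ha hb w u).1, fun x => ?_⟩
    obtain ⟨U, V, a, b, q, u, ha, hb, w, rfl⟩ := exists_chart_at hX hY f x
    exact ⟨U, V, a, b, q, u, ha, hb, w, rfl, (h a b q ha hb w u).2⟩
  · rintro ⟨h1, h2⟩ U V a b q ha hb w u
    have hlft : LocP @LocallyOfFiniteType f := fun U' V' a' b' q' ha' hb' w' => by
      haveI : LocallyOfFinitePresentation q'.left := (hf a' b' q' ha' hb' w').2
      infer_instance
    exact ⟨h1 a b q ha hb w u,
      ((etInvAt_fibreDimAt (· = (d : WithBot ℕ∞))).hasAtMor_iff hlft ha hb w u).1 (h2 _)⟩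

end Groth.Agent.H29CurvSt
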