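import Groth.Agent.H29SpaceCurve.Basic
import Groth.Agent.H29CurvSt.Exist
import Groth.Agent.H13AlgSp.FibreDim

/-!
# The geometric fibres of a family of curves are schemes
-/

set_option autoImplicit false
set_option linter.style.haveILetI false
set_option backward.isDefEq.respectTransparency false

universe u

open CategoryTheory CategoryTheory.Limits AlgebraicGeometry Topology TopologicalSpace
open AlgSp Groth.Agent.H12AlgSp

namespace Groth.Agent.H29CurvSt

variable {S : Scheme.{u}}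

/-- **The geometric fibres of a family of curves are realised by schemes.** -/
theorem exists_geomFibre {n : ℕ} {A : CurvSt.SpFamObj S n} (hA : CurvSt.IsCurveFam A) (Ω : Type u) [Field Ω]
    [IsAlgClosed Ω] (t : Spec (CommRingCat.of Ω) ⟶ A.base.left) :
    ∃ (X' : Scheme.{u}) (q : X' ⟶ Spec (CommRingCat.of Ω)) (i : (yon S).obj (A.ptOver (q ≫ t)) ⟶ A.X),
      IsPullback i ((yon S).map (A.fibHom t q)) A.f ((yon S).map (A.ptHom t)) := by
  obtain ⟨hX, hflat, hproper, hfp, hdim⟩ := hA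
  let pt := A.ptOver t
  let sq := IsPullback.of_hasPullback A.f ((yon S).map (A.ptHom t))
  let F := pullback A.f ((yon S).map (A.ptHom t))
  let π₀ : F ⟶ (yon S).obj pt := pullback.snd _ _
  have hY := IsAlgSpace.yon_obj A.base
  have hpt := IsAlgSpace.yon_obj pt
  have hF : IsAlgSpace F := isAlgSpace_of_isPullback hY.diag hX hpt sq
  haveI : IsAffine pt.left := inferInstanceAs (IsAffine (Spec (CommRingCat.of Ω)))
  haveI : CompactSpace pt.left := inferInstanceAs (CompactSpace (Spec (CommRingCat.of Ω)))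
  have hqc : IsQuasiCompactSp F := hfp.2.1 hpt
    ⟨pt, 𝟙 _, repWith_id _ _, repWith_id _ _, inferInstance⟩ _ _ _ sq
  haveI := compactSpace_points_of_isQuasiCompactSp hqc
  obtain ⟨U, a, hU, ha, has⟩ := exists_affine_atlas hF
  haveI := hU
  obtain ⟨u₀, hu₀⟩ := (yon S).map_surjective (a ≫ π₀)
  have hsnd : LocP @LocallyOfFiniteType π₀ :=
    H12AlgSp.locP_of_isPullback etLocal_lft sq hX hY hpt hproper.2.1.1
  haveI : LocallyOfFiniteType u₀.left :=
    hsnd a (𝟙 _) u₀ ha (repWith_id _ _) (by rw [Category.comp_id, hu₀])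
  haveI : Subsingleton pt.left := inferInstanceAs (Subsingleton (PrimeSpectrum Ω))
  have hd : topologicalKrullDim U.left ≤ 1 := (H13AlgSp.FibreDim.dim_le_iff_localDim _).2 fun z => by
    have h1 : H13AlgSp.FibreDim.RelDimLE π₀ ((1 : ℕ) : WithBot ℕ∞) (Points.ofPt a z) :=
      (H13AlgSp.FibreDim.relDimLE_baseChange hX hY hpt sq hproper.2.1.1 _ _).2 (hdim _)
    rw [H13AlgSp.FibreDim.RelDimLE, (Groth.Agent.H12AlgSp.etInvAt_fibreDimAt (· ≤ ((1 : ℕ) : WithBot ℕ∞))).hasAtMor_iff hsnd ha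
      (repWith_id _ _) (h := u₀) (by rw [Category.comp_id, hu₀]) z, Groth.Agent.H12AlgSp.fibreDimAt_of_subsingleton] at h1
    exact_mod_cast h1
  have hrep := H29SpaceCurve.isRepresentable_of_dim_le_one (k := Ω) hF π₀
    (isSeparatedMor_of_isPullback sq hproper.1) u₀ hd a ha has hu₀.symm
  obtain ⟨Y, ⟨e⟩⟩ := isRepresentable_iff_exists_iso.1 hrep
  obtain ⟨w, hw⟩ := (yon S).map_surjective (e.hom ≫ π₀)
  let q : Y.left ⟶ Spec (CommRingCat.of Ω) := w.left
  let ε : A.ptOver (q ≫ t) ≅ Y := Over.isoMk (Iso.refl _) (by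
    show 𝟙 _ ≫ Y.hom = (q ≫ t) ≫ A.base.hom
    rw [Category.id_comp, Category.assoc]
    exact (Over.w w).symm)
  refine ⟨Y.left, q, (yon S).map ε.hom ≫ e.hom ≫ pullback.fst _ _,
    sq.of_iso ((e.symm ≪≫ (yon S).mapIso ε.symm)) (Iso.refl _) (Iso.refl _) (Iso.refl _) ?_ ?_ (by simp) (by simp)⟩
  · simp
  · have hε : A.fibHom t q = ε.hom ≫ w := Over.OverMorphism.ext (Category.id_comp q).symm
    rw [hε]
    simp [hw, π₀, F]

end Groth.Agent.H29CurvSt

namespace Groth.Agent.H29CurvSt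

variable {S : Scheme.{u}}

/-- A scheme realising a geometric fibre of a family of curves is locally of finite type and of dimension at most one. -/
theorem geomFibre_facts {n : ℕ} {A : CurvSt.SpFamObj S n} (hA : CurvSt.IsCurveFam A) {Ω : Type u} [Field Ω]
    [IsAlgClosed Ω] {t : Spec (CommRingCat.of Ω) ⟶ A.base.left} {X' : Scheme.{u}} {q : X' ⟶ Spec (CommRingCat.of Ω)}
    {i : (yon S).obj (A.ptOver (q ≫ t)) ⟶ A.X}
    (hP : IsPullback i ((yon S).map (A.fibHom t q)) A.f ((yon S).map (A.ptHom t))) :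
    LocallyOfFiniteType q ∧ QuasiCompact q ∧ IsSeparated q ∧ topologicalKrullDim X' ≤ 1 := by
  obtain ⟨hX, -, hproper, hfp, hdim⟩ := hA
  have hY := IsAlgSpace.yon_obj A.base
  have hpt := IsAlgSpace.yon_obj (A.ptOver t)
  have hU := IsAlgSpace.yon_obj (A.ptOver (q ≫ t))
  have hsnd := H12AlgSp.locP_of_isPullback etLocal_lft hP hX hY hpt hproper.2.1.1
  haveI : LocallyOfFiniteType q := hsnd (𝟙 _) (𝟙 _) (A.fibHom t q) (repWith_id _ _) (repWith_id _ _) (by simp)
  haveI : Subsingleton (A.ptOver t).left := inferInstanceAs (Subsingleton (PrimeSpectrum Ω))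
  refine ⟨inferInstance, ?_, ?_, (H13AlgSp.FibreDim.dim_le_iff_localDim _).2 fun z => ?_⟩
  · have hqc : IsQuasiCompactSp ((yon S).obj (A.ptOver (q ≫ t))) :=
      hfp.2.1 hpt ⟨A.ptOver t, 𝟙 _, repWith_id _ _, repWith_id _ _,
        inferInstanceAs (CompactSpace (Spec (CommRingCat.of Ω)))⟩ _ _ _ hP
    haveI := compactSpace_points_of_isQuasiCompactSp hqc
    haveI : CompactSpace (A.ptOver (q ≫ t)).left := (Points.schemeHomeo (A.ptOver (q ≫ t))).symm.compactSpace
    exact (quasiCompact_iff_compactSpace q).2 ‹CompactSpace (A.ptOver (q ≫ t)).left›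
  · have h := isSeparatedMor_of_isPullback hP hproper.1
    exact (isSeparatedMor_yon_map_iff (A.fibHom t q)).1 h
  · have h1 : H13AlgSp.FibreDim.RelDimLE ((yon S).map (A.fibHom t q)) ((1 : ℕ) : WithBot ℕ∞)
        (Points.ofPt (𝟙 ((yon S).obj (A.ptOver (q ≫ t)))) z) :=
      (H13AlgSp.FibreDim.relDimLE_baseChange hX hY hpt hP hproper.2.1.1 _ _).2 (hdim _)
    rw [H13AlgSp.FibreDim.RelDimLE, (Groth.Agent.H12AlgSp.etInvAt_fibreDimAt (· ≤ ((1 : ℕ) : WithBot ℕ∞))).hasAtMor_iff
      hsnd (repWith_id _ _) (repWith_id _ _) (h := A.fibHom t q) (by simp) z,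
      Groth.Agent.H12AlgSp.fibreDimAt_of_subsingleton] at h1
    exact_mod_cast h1

end Groth.Agent.H29CurvSt
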