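import Groth.Prelude.Def_StCurv2
import Groth.Agent.H29Stk.SubstackU

/-!
# Open substacks of the stack of curves from open loci in the bases of families
-/

set_option autoImplicit false
set_option linter.style.haveILetI false
set_option backward.isDefEq.respectTransparency false
set_option backward.isDefEq.respectTransparency.types false

universe u

open CategoryTheory AlgebraicGeometry

noncomputable section

namespace Groth.Agent.H29CurvSt

variable {S : Scheme.{u}} {n : ℕ}

/-- `W` is the locus of `Q` in the base of the family `A`: a pullback of `A` satisfies `Q` exactly when its base lands in `W`. -/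
def IsLocus (Q : (CurvSt.Curves S n).obj → Prop) (A : (CurvSt.Curves S n).obj) (W : A.obj.base.left.Opens) : Prop :=
  ∀ (B : (CurvSt.Curves S n).obj) (φ : B ⟶ A), Q B ↔ ∀ t : B.obj.base.left, φ.hom.base.left t ∈ W

/-- A predicate on curves with open loci gives an open substack. -/
theorem isOpenSubstack_of_locus (Q : (CurvSt.Curves S n).obj → Prop)
    (hQ : ∀ A : (CurvSt.Curves S n).obj, ∃ W, IsLocus Q A W)
    (hC : AlgSt.IsAlgStack Scheme.fppfPrecoverage (CurvSt.Curves S n)) :
    AlgSt.IsOpenSubstack (CurvSt.Curves S n) Q Scheme.fppfPrecoverage := by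
  refine H29Stk.isOpenSubstack_of_openPred (fun {a b} φ ha => ?_) (fun U x => ?_) hC
  · obtain ⟨W, hW⟩ := hQ a
    refine (hW b φ).2 fun t => ?_
    have h1 := (hW a (𝟙 a)).1 ha (φ.hom.base.left t)
    exact h1
  · let A := x.obj (H14Fib.topObj U)
    obtain ⟨W, hW⟩ := hQ A
    have hb : A.obj.base = U := x.w_obj (H14Fib.topObj U)
    let e : A.obj.base ⟶ U := eqToHom hb
    let e' : U ⟶ A.obj.base := eqToHom hb.symm
    refine ⟨e'.left ⁻¹ᵁ W, fun s => ?_⟩
    let φ : x.obj s ⟶ A := x.map (H14Fib.toTop s)
    have hs : (x.obj s).obj.base = s.left := x.w_obj s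
    have hφ : φ.hom.base = eqToHom hs ≫ s.hom ≫ e' := by
      have h := Functor.congr_hom x.w (H14Fib.toTop s)
      exact h
    rw [hW _ φ]
    have hl : φ.hom.base.left = (eqToHom hs).left ≫ s.hom.left ≫ e'.left := by
      rw [hφ, Over.comp_left, Over.comp_left]
    have key : ∀ t : (x.obj s).obj.base.left, φ.hom.base.left t = e'.left (s.hom.left ((eqToHom hs).left t)) := fun t => by
      rw [hl]; rfl
    constructor
    · intro h t
      have ht := h ((eqToHom hs.symm).left t)
      rw [key, ← Scheme.Hom.comp_apply (eqToHom hs.symm).left (eqToHom hs).left, ← Over.comp_left, eqToHom_trans,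
        eqToHom_refl, Over.id_left] at ht
      exact ht
    · intro h t
      rw [key]
      exact h _

end Groth.Agent.H29CurvSt
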