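import Groth.Agent.H29CurvSt.GeomFibScheme
import Groth.Agent.H13AlgSp.FibreRed
import Groth.Agent.H29CurvSt.OpenSub
import Groth.Agent.S10682

/-!
# The open locus of geometrically reduced fibres in a family of curves
-/

set_option autoImplicit false
set_option linter.style.haveILetI false
set_option backward.isDefEq.respectTransparency false

universe u

open CategoryTheory CategoryTheory.Limits AlgebraicGeometry Topology TopologicalSpace
open AlgSp Groth.Agent.H12AlgSp Groth.Agent.H13AlgSp.FibreRed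

namespace Groth.Agent.H29CurvSt

variable {S : Scheme.{u}} {n : ℕ}

/-- All geometric fibres of the family are reduced. -/
abbrev GeomReducedFibres (A : CurvSt.SpFamObj S n) : Prop :=
  CurvSt.GeomFib (fun _ _ _ X' _ _ => IsReduced X') A

theorem redAlong_of_algClosed {A : CurvSt.SpFamObj S n} (hA : CurvSt.IsCurveFam A) (h : GeomReducedFibres A)
    (Ω : Type u) [Field Ω] [IsAlgClosed Ω] (t : Spec (CommRingCat.of Ω) ⟶ A.base.left) :
    RedAlong A.f ((yon S).map (A.ptHom t)) := by
  intro Q q₁ q₂ hQ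
  obtain ⟨X', q, i, hP⟩ := exists_geomFibre hA Ω t
  exact ⟨A.ptOver (q ≫ t), (hP.isoIsPullback _ _ hQ).hom, repWith_of_isIso _, repWith_of_isIso _, h Ω t X' q i hP⟩

theorem redAlong_ptHom {A : CurvSt.SpFamObj S n} (hA : CurvSt.IsCurveFam A) (h : GeomReducedFibres A)
    (K : Type u) [Field K] (t : Spec (CommRingCat.of K) ⟶ A.base.left) : RedAlong A.f ((yon S).map (A.ptHom t)) := by
  let Ω := AlgebraicClosure K
  let β : Spec (CommRingCat.of Ω) ⟶ Spec (CommRingCat.of K) := Spec.map (CommRingCat.ofHom (algebraMap K Ω))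
  let c : A.ptOver (β ≫ t) ⟶ A.ptOver t := Over.homMk β (by simp)
  haveI : Flat c.left := inferInstanceAs (Flat β)
  haveI : Surjective c.left := inferInstanceAs (Surjective β)
  refine redAlong_descend hA.1 (IsAlgSpace.yon_obj _) c ?_
  rw [← Functor.map_comp, show c ≫ A.ptHom t = A.ptHom (β ≫ t) from Over.OverMorphism.ext rfl]
  exact redAlong_of_algClosed hA h Ω (β ≫ t)

theorem geomRedFib_of_geomReducedFibres {A : CurvSt.SpFamObj S n} (hA : CurvSt.IsCurveFam A) (h : GeomReducedFibres A)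
    (y : Points ((yon S).obj A.base)) : GeomRedFib A.f y := by
  refine ((geomRed_tfae hA.1 (IsAlgSpace.yon_obj _) A.f y).out 2 1).1 fun k _ => ?_
  obtain ⟨m, hm⟩ := (yon S).map_surjective k.toHom
  have hstr : k.str = m.left ≫ A.base.hom := (Over.w m).symm
  let e : k.pt ≅ A.ptOver m.left := Over.isoMk (Iso.refl _) (by simpa using hstr.symm)
  intro Q q₁ q₂ hQ
  rw [← hm, show m = e.hom ≫ A.ptHom m.left from Over.OverMorphism.ext (Category.id_comp _).symm,
    Functor.map_comp] at hQ
  exact redAlong_ptHom hA h k.K m.left Q q₁ (q₂ ≫ (yon S).map e.hom)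
    (hQ.of_iso (Iso.refl _) (Iso.refl _) ((yon S).mapIso e) (Iso.refl _) (by simp) (by simp) (by simp) (by simp))

theorem geomReducedFibres_iff {A : CurvSt.SpFamObj S n} (hA : CurvSt.IsCurveFam A) :
    GeomReducedFibres A ↔ ∀ t : A.base.left, GeomRedFib A.f (Points.ofScheme A.base t) := by
  refine ⟨fun h t => geomRedFib_of_geomReducedFibres hA h _, fun h Ω _ _ t X' q i hP => ?_⟩
  let k : FieldPt ((yon S).obj A.base) := fieldPtOfHom (K := Ω) ((yon S).map (A.ptHom t))
  have hk : Points.mk k = Points.ofScheme A.base (t (IsLocalRing.closedPoint Ω)) := by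
    rw [← Points.ofPt_toHom k, toHom_fieldPtOfHom]
    show Points.ofPt ((yon S).map (A.ptHom t)) (IsLocalRing.closedPoint Ω) = _
    rw [← Category.comp_id ((yon S).map (A.ptHom t)), ofPt_map]
    rfl
  have h2 := (geomRed_tfae hA.1 (IsAlgSpace.yon_obj _) A.f (Points.mk k)).out 1 2
  have h1 : RedAlong A.f k.toHom := h2.1 (hk.symm ▸ h _ : GeomRedFib A.f (Points.mk k)) k rfl
  rw [toHom_fieldPtOfHom] at h1
  exact Groth.Agent.H13AlgSp.FibreRed.isReduced_chart (IsAlgSpace.yon_obj _) (h1 _ i _ hP)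
    (repWith_id _ (A.ptOver (q ≫ t)))

theorem isReduced_of_geomRedFib_baseChange {X : Sp S} {T T' : Over S} (hX : IsAlgSpace X) {f : X ⟶ (yon S).obj T}
    {X' : Sp S} (hX' : IsAlgSpace X') {f' : X' ⟶ (yon S).obj T'} {g : T' ⟶ T} {fst : X' ⟶ X}
    (sq : IsPullback fst f' f ((yon S).map g)) (t : T'.left) :
    GeomRedFib f' (Points.ofScheme T' t) ↔ GeomRedFib f (Points.ofScheme T (g.left t)) := by
  have key : ∀ {Z : Over S} (i : (yon S).obj Z ⟶ (yon S).obj T'),
      RedAlong f' i ↔ RedAlong f (i ≫ (yon S).map g) := fun {Z} i =>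
    ⟨fun h Q q₁ q₂ hQ => h Q (sq.lift q₁ (q₂ ≫ i) (by rw [Category.assoc]; exact hQ.w)) q₂
        (IsPullback.of_right (by rw [sq.lift_fst]; exact hQ) (sq.lift_snd _ _ _) sq),
      fun h Q q₁ q₂ hQ => h Q (q₁ ≫ fst) q₂ (hQ.paste_horiz sq)⟩
  let k : FieldPt ((yon S).obj T') := FieldPt.ofPt (𝟙 ((yon S).obj T')) t
  let k' : FieldPt ((yon S).obj T) := fieldPtOfHom (K := k.K) (k.toHom ≫ (yon S).map g)
  have hk : Points.mk k = Points.ofScheme T' t := rfl
  have hk' : Points.mk k' = Points.ofScheme T (g.left t) := by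
    rw [← Points.ofPt_toHom k', toHom_fieldPtOfHom]
    show Points.ofPt (k.toHom ≫ (yon S).map g) (IsLocalRing.closedPoint k.K) = _
    rw [← Points.map_ofPt, Points.ofPt_toHom, hk]
    exact Points.map_yon_map_apply g t
  have h0 : GeomRedPt f' k ↔ GeomRedPt f k' := by
    refine forall_congr' fun K => forall_congr' fun _ => forall_congr' fun φ => ?_
    rw [key, Category.assoc, show k'.toHom = k.toHom ≫ (yon S).map g from toHom_fieldPtOfHom _]
  constructor
  · intro H
    have h2 := (geomRed_tfae hX (IsAlgSpace.yon_obj _) f (Points.ofScheme T (g.left t))).out 0 1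
    exact h2.1 ⟨k', hk', h0.1 (H k hk)⟩
  · intro H
    have h2 := (geomRed_tfae hX' (IsAlgSpace.yon_obj _) f' (Points.ofScheme T' t)).out 0 1
    exact h2.1 ⟨k, hk, h0.2 (H k' hk')⟩

/-- The geometrically reduced fibres cut out an open locus. -/
theorem exists_isLocus_geomReduced (A : (CurvSt.Curves S n).obj) :
    ∃ W, IsLocus (fun B => GeomReducedFibres B.obj) A W := by
  let X : Space S := ⟨A.obj.X, A.property.1⟩
  let Y : Space S := ⟨(yon S).obj A.obj.base, IsAlgSpace.yon_obj _⟩
  have hopen : IsOpen {y : Points Y.obj | GeomRedFib A.obj.f y} :=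
    Groth.Agent.S10682.result (X := X) (Y := Y) (ObjectProperty.homMk A.obj.f) A.property.2.1 A.property.2.2.1
      A.property.2.2.2.1
  refine ⟨⟨_, hopen.preimage (Points.schemeHomeo A.obj.base).continuous⟩, fun B φ => ?_⟩
  show GeomReducedFibres B.obj ↔ _
  rw [geomReducedFibres_iff B.property]
  exact forall_congr' fun t => isReduced_of_geomRedFib_baseChange A.property.1 B.property.1 φ.hom.cart t

end Groth.Agent.H29CurvSt
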