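import Groth.Agent.H29CurvSt.Locus
import Groth.Agent.H8Props.AlgSpLci.Lci

/-!
# The local complete intersection locus as an open fibrewise property
-/

set_option autoImplicit false
set_option linter.style.haveILetI false
set_option backward.isDefEq.respectTransparency false

universe u

open CategoryTheory CategoryTheory.Limits AlgebraicGeometry Topology TopologicalSpace
open AlgSp Groth.Agent.H12AlgSp Groth.Agent.H8Props.KoszImm Groth.Agent.H8Props.AlgSpLci

namespace Groth.Agent.H29CurvSt

/-- Koszul at a point. -/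
abbrev KoszulAt : ∀ U V : Scheme.{u}, (U ⟶ V) → ↥U → Prop := fun _ _ h x => Synt.IsKoszulAt h x

theorem openFibrewise_koszulAt : OpenFibrewise.{u} KoszulAt where
  inv := by
    refine ⟨fun {W U V} g f hg _ w => ?_, fun {U V V'} f g hg _ u => ?_⟩
    · haveI := hg
      refine ⟨fun hw => ?_, fun h => isKoszulAt_comp g f w (isKoszulAt_of_smooth g w) h⟩
      let W' : W.Opens := ⟨{y | Synt.IsKoszulAt (g ≫ f) y}, isOpen_koszul (g ≫ f)⟩
      let I : U.Opens := ⟨g '' (W' : Set W), g.isOpenMap _ W'.isOpen⟩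
      have e : W' ≤ g ⁻¹ᵁ I := fun z hz => ⟨z, hz, rfl⟩
      have het : Etale (g.resLE I W' e) := by
        have : Etale (g.resLE I W' e ≫ I.ι) := by rw [Scheme.Hom.resLE_comp_ι]; infer_instance
        exact Etale.of_comp _ I.ι
      have hs : Surjective (g.resLE I W' e) := by
        refine ⟨fun y => ?_⟩
        obtain ⟨z, hz, ez⟩ := y.2
        refine ⟨⟨z, hz⟩, Subtype.ext ?_⟩
        refine Eq.trans ?_ ez
        change (g.resLE I W' e ≫ I.ι) ⟨z, hz⟩ = g z
        rw [Scheme.Hom.resLE_comp_ι, Scheme.Hom.comp_apply]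
        rfl
      have key : lci (g.resLE I W' e ≫ I.ι ≫ f) := by
        rw [← Category.assoc, Scheme.Hom.resLE_comp_ι, Category.assoc]
        exact fun z => (isKoszulAt_open_iff W'.ι (g ≫ f) z).2 z.2
      exact (isKoszulAt_open_iff I.ι f ⟨g w, ⟨w, hw, rfl⟩⟩).1 (chartLocal_lci.descends (g.resLE I W' e) (I.ι ≫ f) het hs key _)
    · haveI := hg
      exact ⟨isKoszulAt_of_comp_smooth f g u, isKoszulAt_comp_smooth f g u⟩
  isOpen h _ _ := isOpen_koszul h
  baseChange {A B A' B' g' f' f g} _ _ hc x' := by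
    haveI : Flat (f ≫ 𝟙 B) := by rw [Category.comp_id]; infer_instance
    haveI : LocallyOfFinitePresentation (f ≫ 𝟙 B) := by rw [Category.comp_id]; infer_instance
    exact isKoszulAt_baseChange_iff f (𝟙 B) g g (𝟙 B') (IsPullback.of_vert_isIso ⟨by simp⟩) g' f'
      (by rw [Category.comp_id, Category.comp_id]; exact hc) hc.w x'

theorem allPts_koszulAt : allPts KoszulAt = (AlgSp.lci : MorphismProperty Scheme.{u}) := rfl

end Groth.Agent.H29CurvSt
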