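import Groth.Agent.H29CurvSt.Locus
import Groth.Agent.H17.LocusBC
import Groth.Agent.H8Props.FieldDimSmooth
import Groth.Agent.H8Props.FieldDimFibre

/-!
# The smooth locus as an open fibrewise property
-/

set_option autoImplicit false
set_option linter.style.haveILetI false
set_option backward.isDefEq.respectTransparency false

universe u

open CategoryTheory CategoryTheory.Limits AlgebraicGeometry Topology
open AlgSp Groth.Agent.H12AlgSp

namespace Groth.Agent.H29CurvSt

/-- Smooth at a point. -/
abbrev SmoothAt : ∀ U V : Scheme.{u}, (U ⟶ V) → ↥U → Prop := nbhdProp @Smooth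

theorem smoothAt_iff {U V : Scheme.{u}} (h : U ⟶ V) [LocallyOfFinitePresentation h] (u : U) :
    SmoothAt U V h u ↔ u ∈ h.smoothLocus := (H17.LocusBC.mem_smoothLocus_iff_exists h u).symm

/-- Smoothness at a point of a flat morphism of finite presentation is insensitive to base change. -/
theorem mem_smoothLocus_iff_of_flat {A B A' B' : Scheme.{u}} {g' : A' ⟶ A} {f' : A' ⟶ B'} {f : A ⟶ B} {g : B' ⟶ B}
    [Flat f] [LocallyOfFinitePresentation f] [LocallyOfFinitePresentation f'] (hc : IsPullback g' f' f g) (x' : A') :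
    x' ∈ f'.smoothLocus ↔ g' x' ∈ f.smoothLocus := by
  refine ⟨fun hx => ?_, fun hx => H17.LocusBC.preimage_smoothLocus_le hc hx⟩
  haveI : LocallyOfFinitePresentation (f.fiberToSpecResidueField (f (g' x'))) :=
    MorphismProperty.pullback_snd _ _ inferInstance
  refine H17.LocusBC.mem_smoothLocus_of_flat_of_fiber f (g' x') (Flat.stalkMap f _) ?_
  haveI h1 : LocallyOfFinitePresentation (f'.fiberToSpecResidueField (f' x')) :=
    MorphismProperty.pullback_snd _ _ inferInstance
  have hx1 : f'.asFiber x' ∈ (f'.fiberToSpecResidueField (f' x')).smoothLocus := by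
    refine H17.LocusBC.preimage_smoothLocus_le (IsPullback.of_hasPullback f' (B'.fromSpecResidueField (f' x'))) ?_
    show f'.fiberι _ (f'.asFiber x') ∈ f'.smoothLocus
    rwa [Scheme.Hom.fiberι_asFiber]
  haveI hfl : LocallyOfFinitePresentation (f.fiberToSpecResidueField (g (f' x'))) :=
    MorphismProperty.pullback_snd _ _ inferInstance
  letI := (g.residueFieldMap (f' x')).hom.toAlgebra
  have sq := isPullback_fiberToSpecResidueField_of_isPullback hc (f' x')
  haveI : Flat (Spec.map (g.residueFieldMap (f' x'))) := by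
    rw [HasRingHomProperty.Spec_iff (P := @Flat)]
    exact RingHom.flat_algebraMap_iff.2 inferInstance
  have h2 := H17.LocusBC.mem_smoothLocus_of_flat_baseChange sq (f'.asFiber x') hx1
  have key : ∀ (y : B) (_ : y = f (g' x')) (_ : LocallyOfFinitePresentation (f.fiberToSpecResidueField y)) (z : f.fiber y),
      f.fiberι y z = g' x' → z ∈ (f.fiberToSpecResidueField y).smoothLocus →
        f.asFiber (g' x') ∈ (f.fiberToSpecResidueField (f (g' x'))).smoothLocus := by
    rintro y rfl _ z hz hm
    rwa [show f.asFiber (g' x') = z from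
      (f.fiberι _).isEmbedding.injective ((f.fiberι_asFiber _).trans hz.symm)]
  refine key _ (congr($(hc.w) x')).symm hfl _ ?_ h2
  erw [← Scheme.Hom.comp_apply, pullback.lift_fst]
  exact congrArg g' (f'.fiberι_asFiber x')

theorem openFibrewise_smoothAt : OpenFibrewise.{u} SmoothAt where
  inv := ⟨fun g f hg _ w => (etInvAt_nbhd etLocal_smooth).precomp g f hg trivial w,
    fun f g hg _ u => (etInvAt_nbhd etLocal_smooth).postcomp f g hg trivial u⟩
  isOpen h _ _ := by
    convert h.smoothLocus.isOpen using 1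
    exact Set.ext fun u => smoothAt_iff h u
  baseChange {A B A' B' g' f' f g} _ _ hc x' := by
    haveI : LocallyOfFinitePresentation f' := MorphismProperty.of_isPullback hc inferInstance
    rw [smoothAt_iff, smoothAt_iff, mem_smoothLocus_iff_of_flat hc x']

theorem allPts_smoothAt : allPts SmoothAt = (@Smooth : MorphismProperty Scheme.{u}) := by
  ext U V h
  refine ⟨fun hh => of_nbhd h hh, fun hh u => ⟨⊤, trivial, ?_⟩⟩
  haveI := hh
  infer_instance

/-- A smooth morphism is near each point smooth of some relative dimension, the fibre dimension. -/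
theorem exists_chart_dim {U V : Scheme.{u}} (h : U ⟶ V) [Smooth h] (x : U) :
    ∃ (n : ℕ) (O : V.Opens) (_ : IsAffineOpen O) (W : U.Opens) (_ : IsAffineOpen W) (_ : x ∈ W) (e : W ≤ h ⁻¹ᵁ O),
      (h.appLE O W e).hom.IsStandardSmoothOfRelativeDimension n ∧ ∀ y ∈ W, FlatMor.fibreDimAt h y = n := by
  obtain ⟨O, hO, W, hW, hx, e, hf⟩ := Smooth.exists_isStandardSmooth h x
  algebraize [(h.appLE O W e).hom]
  obtain ⟨ι, σ, _, _, ⟨P⟩⟩ := Algebra.IsStandardSmooth.out (R := Γ(V, O)) (S := Γ(U, W))
  have hn : (h.appLE O W e).hom.IsStandardSmoothOfRelativeDimension P.dimension :=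
    (⟨⟨_, _, _, ‹_›, P, rfl⟩⟩ : Algebra.IsStandardSmoothOfRelativeDimension P.dimension Γ(V, O) Γ(U, W))
  refine ⟨P.dimension, O, hO, W, hW, hx, e, hn, fun y hy => ?_⟩
  haveI : SmoothOfRelativeDimension P.dimension (W.ι ≫ h) := by
    haveI : IsAffine W := hW
    haveI : IsAffine O := hO
    haveI : SmoothOfRelativeDimension P.dimension (h.resLE O W e) := by
      rw [HasRingHomProperty.iff_of_isAffine (P := @SmoothOfRelativeDimension P.dimension),
        (RingHom.locally_respectsIso RingHom.isStandardSmoothOfRelativeDimension_respectsIso).arrow_mk_iso_iff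
          (arrowResLEAppIso h O W e)]
      exact RingHom.locally_of RingHom.isStandardSmoothOfRelativeDimension_respectsIso _ hn
    rw [← Scheme.Hom.resLE_comp_ι (f := h) e]
    exact inferInstanceAs (SmoothOfRelativeDimension (P.dimension + 0) (h.resLE O W e ≫ O.ι))
  exact (H8Props.FieldDim.fibreDimAt_openImmersion_comp W.ι h ⟨y, hy⟩).symm.trans
    (H8Props.FieldDim.fibreDimAt_of_smoothOfRelativeDimension (W.ι ≫ h) P.dimension ⟨y, hy⟩)

/-- Smooth of relative dimension `d` at a point. -/
abbrev SmoothDimAt (d : ℕ) : ∀ U V : Scheme.{u}, (U ⟶ V) → ↥U → Prop :=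
  fun U V h u => SmoothAt U V h u ∧ FlatMor.fibreDimAt h u = (d : WithBot ℕ∞)

theorem openFibrewise_smoothDimAt (d : ℕ) : OpenFibrewise.{u} (SmoothDimAt d) where
  inv := by
    refine ⟨fun g f hg hf w => ?_, fun f g hg hf u => ?_⟩
    · haveI : LocallyOfFinitePresentation f := hf.2
      exact and_congr (openFibrewise_smoothAt.inv.precomp g f hg hf w)
        ((etInvAt_fibreDimAt (· = (d : WithBot ℕ∞))).precomp g f hg inferInstance w)
    · haveI : LocallyOfFinitePresentation f := hf.2
      exact and_congr (openFibrewise_smoothAt.inv.postcomp f g hg hf u)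
        ((etInvAt_fibreDimAt (· = (d : WithBot ℕ∞))).postcomp f g hg inferInstance u)
  isOpen {U V} h _ _ := by
    refine isOpen_iff_forall_mem_open.2 fun x ⟨⟨W, hxW, hW⟩, hd⟩ => ?_
    haveI := hW
    obtain ⟨n, O, -, W', -, hx', e, -, hn⟩ := exists_chart_dim (W.ι ≫ h) ⟨x, hxW⟩
    refine ⟨W.ι '' (W' : Set W.toScheme), ?_, W.ι.isOpenEmbedding.isOpenMap _ W'.isOpen, ⟨⟨x, hxW⟩, hx', rfl⟩⟩
    rintro _ ⟨w, hw, rfl⟩
    have h1 := (H8Props.FieldDim.fibreDimAt_openImmersion_comp W.ι h w).symm.trans (hn w hw)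
    have h2 := (H8Props.FieldDim.fibreDimAt_openImmersion_comp W.ι h ⟨x, hxW⟩).symm.trans (hn _ hx')
    exact ⟨⟨W, w.2, hW⟩, h1.trans (h2.symm.trans hd)⟩
  baseChange {A B A' B' g' f' f g} _ _ hc x' :=
    and_congr (openFibrewise_smoothAt.baseChange hc x') (by
      rw [H8Props.FieldDim.fibreDimAt_baseChange f hc x'])

theorem allPts_smoothDimAt (d : ℕ) :
    allPts (SmoothDimAt d) = fun (U V : Scheme.{u}) (h : U ⟶ V) => SmoothOfRelativeDimension d h := by
  ext U V h
  constructor
  · intro hh
    haveI : Smooth h := of_nbhd h fun u => (hh u).1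
    refine ⟨fun x => ?_⟩
    obtain ⟨n, O, hO, W, hW, hx, e, hn, hdim⟩ := exists_chart_dim h x
    obtain rfl : n = d := by exact_mod_cast (hdim x hx).symm.trans (hh x).2
    exact ⟨O, hO, W, hW, hx, e, hn⟩
  · intro hh u
    haveI := hh
    haveI := SmoothOfRelativeDimension.smooth d h
    exact ⟨⟨⊤, trivial, inferInstance⟩, H8Props.FieldDim.fibreDimAt_of_smoothOfRelativeDimension h d u⟩

end Groth.Agent.H29CurvSt
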